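import Cfsg.Agent.H145.BR.RowZ
import Cfsg.Agent.H133.PB.AltOdd
import Cfsg.Agent.S2119
import Cfsg.Agent.S0254
import Cfsg.Agent.S0813
import Cfsg.Agent.CpAut.Base
import Cfsg.Agent.ClassicalGeometry.PSL2Basic
import Mathlib.Data.Nat.Choose.Lucas

/-!
# S4891: the row of the alternating groups (helper709)

`alt : RowForZ p (fun X _ => IsAlternating X)`, `p` odd: the restrictions to `A_n` of the characters `(n - k, k)` of
`S_n`, with `k ≡ 0` or `k ≡ n + 1` modulo `p` (and `(p - 1, p - 1, 1)` for `n = 2p - 1`).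
-/

set_option autoImplicit false

namespace Cfsg.Agent.H709.BR

open Cfsg Cfsg.Agent Cfsg.Agent.H614 Cfsg.Agent.H145.BR Cfsg.Agent.H133.PB Finset
open Cfsg.Agent.Characters.Core Cfsg.Agent.Blocks.Basic Cfsg.Agent.Blocks.Local

universe u v

/-! ### Transport -/

theorem RowZ.congr {p : ℕ} {X : Type u} [Group X] {Y : Type u} [Group Y] (e : X ≃* Y) (h : RowZ p Y) : RowZ p X := by
  intro A hA M hM
  have hMp : M.IsPrime := Blocks.Local.isPrime_of_isPModular hM
  obtain ⟨θ, h1, h2, h3, h4, h5⟩ := h (A.map (MulAut.congr e).toMonoidHom) (hA.map _) M hM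
  refine ⟨⟨(θ : Y → ℂ) ∘ e, isIrr_comp e.toMonoidHom e.surjective θ.2⟩, ?_, ?_, ?_, ?_, ?_⟩
  · exact H133.PB.mem_principalBlock_comp e.toMonoidHom e.surjective h1
  · intro h6
    apply h2
    funext y
    have := congrFun h6 (e.symm y)
    simpa using this
  · have h6 : charDegree ((θ : Y → ℂ) ∘ e) = charDegree (θ : Y → ℂ) := by
      unfold charDegree
      rw [Function.comp_apply, map_one]
    show ¬ p ∣ charDegree ((θ : Y → ℂ) ∘ e)
    rwa [h6]
  · exact fun g => h4 (e g)
  · intro a ha x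
    have h6 := h5 (MulAut.congr e a) (Subgroup.mem_map_of_mem _ ha) (e x)
    have h7 : (MulAut.congr e a) (e x) = e (a x) := by
      show e (a (e.symm (e x))) = _
      rw [e.symm_apply_apply]
    rw [h7] at h6
    exact h6

/-! ### Automorphisms of odd order are inner -/

theorem inner_of_odd {X : Type*} [Group X] [Finite X] {n m : ℕ} (hc : Subgroup.center X = ⊥)
    (h : Nat.card (MulAut X) = n * Nat.card X) {a : MulAut X} (ha : a ^ m = 1) (hmn : m.Coprime n) :
    ∃ g : X, a = MulAut.conj g := by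
  have hinj : Function.Injective (MulAut.conj : X →* MulAut X) := by
    rw [← MonoidHom.ker_eq_bot_iff, ← hc]
    ext x
    rw [MonoidHom.mem_ker, Subgroup.mem_center_iff]
    constructor
    · intro h y
      have h1 : MulAut.conj x y = y := by rw [h]; rfl
      rw [MulAut.conj_apply, mul_inv_eq_iff_eq_mul] at h1
      exact h1.symm
    · intro h
      ext y
      rw [MulAut.conj_apply, ← h y, mul_inv_cancel_right]
      rfl
  have hN : ((MulAut.conj : X →* MulAut X).range).Normal := by
    refine ⟨?_⟩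
    rintro _ ⟨x, rfl⟩ g
    refine ⟨g x, ?_⟩
    ext y
    simp [MulAut.mul_apply, MulAut.conj_apply]
  have hi : (MulAut.conj : X →* MulAut X).range.index = n := by
    have h1 := (MulAut.conj : X →* MulAut X).range.card_mul_index
    have h2 : Nat.card (MulAut.conj : X →* MulAut X).range = Nat.card X :=
      Nat.card_congr (MonoidHom.ofInjective hinj).toEquiv.symm
    rw [h2, h, mul_comm n] at h1
    exact Nat.eq_of_mul_eq_mul_left Nat.card_pos h1
  have h1 : a ^ n ∈ (MulAut.conj : X →* MulAut X).range := by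
    have := Subgroup.pow_index_mem ((MulAut.conj : X →* MulAut X).range) a
    rwa [hi] at this
  have h2 : a ^ m ∈ (MulAut.conj : X →* MulAut X).range := by rw [ha]; exact one_mem _
  have h3 : a ∈ (MulAut.conj : X →* MulAut X).range := by
    have h4 : a ^ ((m.gcd n : ℕ) : ℤ) ∈ (MulAut.conj : X →* MulAut X).range := by
      rw [Nat.gcd_eq_gcd_ab, zpow_add, zpow_mul, zpow_mul, zpow_natCast, zpow_natCast]
      exact mul_mem (zpow_mem h2 _) (zpow_mem h1 _)
    rw [hmn.gcd_eq_one] at h4
    simpa using h4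
  obtain ⟨g, hg⟩ := h3
  exact ⟨g, hg.symm⟩

theorem card_alt (n : ℕ) (hn : 2 ≤ n) : 2 * Nat.card ↥(alternatingGroup (Fin n)) = n.factorial := by
  have : Nontrivial (Fin n) := Fin.nontrivial_iff_two_le.2 hn
  rw [Nat.card_eq_fintype_card, two_mul_card_alternatingGroup, Fintype.card_perm, Fintype.card_fin]

theorem card_aut_alt (n : ℕ) (hn : 4 ≤ n) (h6 : n ≠ 6) :
    Nat.card (MulAut ↥(alternatingGroup (Fin n))) = n.factorial := by
  rw [← Nat.card_congr (Equiv.ofBijective _ (S2119.result n hn h6)), Nat.card_eq_fintype_card, Fintype.card_perm,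
    Fintype.card_fin]

theorem card_aut_alt6 : Nat.card (MulAut ↥(alternatingGroup (Fin 6))) = 4 * Nat.card ↥(alternatingGroup (Fin 6)) := by
  have h3 : Fact (Nat.Prime 3) := ⟨Nat.prime_three⟩
  let _ : Fintype (GaloisField 3 2) := Fintype.ofFinite _
  have hF : Fintype.card (GaloisField 3 2) = 3 ^ 2 := by
    rw [← Nat.card_eq_fintype_card]; exact GaloisField.card 3 2 (by norm_num)
  obtain ⟨e⟩ := S0254.result (F := GaloisField 3 2) (by rw [hF]; norm_num)
  have hA : Nat.card (alternatingGroup (Fin 6)) = 360 := by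
    have := card_alt 6 (by norm_num)
    have h6 : (6 : ℕ).factorial = 720 := rfl
    omega
  have hM := S0813.result (F := GaloisField 3 2) 3 2 (by norm_num) hF 2 le_rfl (by norm_num)
  rw [if_pos rfl, Cfsg.Agent.ClassicalGeometry.PSL2Basic.card_PGL2, hF] at hM
  rw [Nat.card_congr (MulAut.congr e.symm).toEquiv, hA, hM]
  norm_num

theorem inner_alt {n p : ℕ} (hn : 5 ≤ n) (hp : p.Prime) (hp2 : p ≠ 2) {a : MulAut ↥(alternatingGroup (Fin n))} {k : ℕ}
    (ha : a ^ p ^ k = 1) : ∃ g : ↥(alternatingGroup (Fin n)), a = MulAut.conj g := by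
  have hc : Subgroup.center ↥(alternatingGroup (Fin n)) = ⊥ :=
    alternatingGroup.center_eq_bot (α := Fin n) (by rw [Nat.card_eq_fintype_card, Fintype.card_fin]; omega)
  have hco : (p ^ k).Coprime 2 := Nat.Coprime.pow_left _ ((Nat.coprime_primes hp Nat.prime_two).2 hp2)
  by_cases h6 : n = 6
  · subst h6
    exact inner_of_odd hc card_aut_alt6 ha (Nat.Coprime.pow_right 2 hco : (p ^ k).Coprime (2 ^ 2))
  · exact inner_of_odd hc (n := 2) (by rw [card_alt n (by omega), card_aut_alt n (by omega) h6]) ha hco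

/-! ### The characters -/

section

variable {α : Type u} [Fintype α] [DecidableEq α]

theorem ty_swap {a b : α} (hab : a ≠ b) :
    ty (Equiv.swap a b) = 2 ::ₘ Multiset.replicate (Fintype.card α - 2) 1 := by
  rw [ty_eq, (Equiv.Perm.isCycle_swap hab).cycleType, Equiv.Perm.card_support_swap hab]
  simp

theorem exists_theta' [Nontrivial α] {p k : ℕ} [Fact p.Prime] {M : Ideal AlgInt} (hM : IsPModular p M)
    {β : Fin (k + 1) → ℕ} (hβ : StrictMono β) (hs : ∑ i, β i = Fintype.card α + ∑ i : Fin (k + 1), (i : ℕ))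
    (hc : SameCol p (tr k (Fintype.card α)) β) (hd : ¬ (p : ℤ) ∣ FM (Multiset.replicate (Fintype.card α) 1) β)
    (h1 : FM (Multiset.replicate (Fintype.card α) 1) β ≠ 1)
    (hv : FM (2 ::ₘ Multiset.replicate (Fintype.card α - 2) 1) β ≠ 0) :
    ∃ θ : IrrCharacter (alternatingGroup α), θ ∈ principalBlock M (alternatingGroup α) ∧
      (θ : alternatingGroup α → ℂ) ≠ (fun _ => 1) ∧ ¬ p ∣ charDegree (θ : alternatingGroup α → ℂ) ∧
      ∀ g, ∃ k : ℤ, (θ : alternatingGroup α → ℂ) g = k := by
  have hB := ch_mem_principalBlock (α := α) hM hβ hs hc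
  obtain ⟨ψ, hψ⟩ := exists_constituent (alternatingGroup α) (isIrr_ch (α := α) hβ hs)
  have hB' := H611.CoverPrincipal.mem_principalBlock_of_over p hM (alternatingGroup α)
    ⟨ch α β, isIrr_ch (α := α) hβ hs⟩ ψ hψ hB
  have hres : ∀ g : alternatingGroup α, ch α β g = (ψ : alternatingGroup α → ℂ) g := by
    rcases restrict_two (alternatingGroup α) alternatingGroup.index_eq_two (isIrr_ch (α := α) hβ hs) ψ.2 hψ
      with h | ⟨-, h⟩
    · exact h
    · exfalso
      obtain ⟨a, b, hab⟩ := exists_pair_ne α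
      have h2 := h (Equiv.swap a b) (by
        rw [Equiv.Perm.mem_alternatingGroup, Equiv.Perm.sign_swap hab]
        decide)
      rw [ch_apply, ty_swap hab] at h2
      exact hv (by exact_mod_cast h2)
  have hdeg : charDegree (ψ : alternatingGroup α → ℂ) = charDegree (ch α β) := by
    unfold charDegree
    rw [← hres 1]
    rfl
  refine ⟨ψ, hB', ?_, ?_, fun g => ⟨FM (ty (g : Equiv.Perm α)) β, ?_⟩⟩
  · intro h
    have h2 := hres 1
    rw [h, ch_apply, Subgroup.coe_one, ty_one] at h2
    have h3 : ((FM (Multiset.replicate (Fintype.card α) 1) β : ℤ) : ℂ) = 1 := h2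
    exact h1 (by exact_mod_cast h3)
  · rw [hdeg, charDegree_ch hβ hs]
    intro h2
    exact hd (Int.natCast_dvd.2 h2)
  · rw [← hres g, ch_apply]

end

theorem exists_theta {n p k : ℕ} [Fact p.Prime] (hn : 5 ≤ n) {M : Ideal AlgInt} (hM : IsPModular p M)
    {β : Fin (k + 1) → ℕ} (hβ : StrictMono β) (hs : ∑ i, β i = n + ∑ i : Fin (k + 1), (i : ℕ))
    (hc : SameCol p (tr k n) β) (hd : ¬ (p : ℤ) ∣ FM (Multiset.replicate n 1) β)
    (h1 : FM (Multiset.replicate n 1) β ≠ 1) (hv : FM (2 ::ₘ Multiset.replicate (n - 2) 1) β ≠ 0) :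
    ∃ θ : IrrCharacter ↥(alternatingGroup (Fin n)), θ ∈ principalBlock M ↥(alternatingGroup (Fin n)) ∧
      (θ : ↥(alternatingGroup (Fin n)) → ℂ) ≠ (fun _ => 1) ∧ ¬ p ∣ charDegree (θ : ↥(alternatingGroup (Fin n)) → ℂ) ∧
      ∀ g, ∃ k : ℤ, (θ : ↥(alternatingGroup (Fin n)) → ℂ) g = k := by
  have hnt : Nontrivial (Fin n) := Fin.nontrivial_iff_two_le.2 (by omega)
  refine exists_theta' (α := Fin n) hM hβ ?_ ?_ ?_ ?_ ?_ <;> rwa [Fintype.card_fin]

/-! ### Two rows -/

theorem sum_two {n k : ℕ} (hk : k ≤ n) : ∑ i, (![k, n + 1 - k] : Fin 2 → ℕ) i = n + ∑ i : Fin 2, (i : ℕ) := by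
  rw [Fin.sum_univ_two, Fin.sum_univ_two]
  simp
  omega

theorem mono_two {n k : ℕ} (hk : 2 * k ≤ n) : StrictMono (![k, n + 1 - k] : Fin 2 → ℕ) := by
  intro a b hab
  fin_cases a <;> fin_cases b <;> simp at hab ⊢
  omega

/-- The degree formula for two beads. -/
theorem formula_two {N a b : ℕ} (h : a + b = N + 1) :
    FM (Multiset.replicate N 1) (![a, b] : Fin 2 → ℕ) * ((a.factorial : ℤ) * b.factorial) =
      N.factorial * ((b : ℤ) - a) := by
  have h1 := FM_ones_formula N (![a, b] : Fin 2 → ℕ) (by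
    rw [Fin.sum_univ_two, Fin.sum_univ_two]
    simp
    omega)
  rw [Fin.prod_univ_two, Fin.prod_univ_two] at h1
  have e0 : Finset.Ioi (0 : Fin 2) = {1} := by decide
  have e1 : Finset.Ioi (1 : Fin 2) = ∅ := by decide
  rw [e0, e1, Finset.prod_singleton, Finset.prod_empty, mul_one] at h1
  simpa using h1

theorem deg_two {n k : ℕ} (hk : k + 1 ≤ n) :
    FM (Multiset.replicate n 1) (![k + 1, n + 1 - (k + 1)] : Fin 2 → ℕ) = (n.choose (k + 1) : ℤ) - n.choose k := by
  have h1 := formula_two (N := n) (a := k + 1) (b := n + 1 - (k + 1)) (by omega)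
  obtain ⟨m, rfl⟩ : ∃ m, n = m + (k + 1) := ⟨n - (k + 1), by omega⟩
  have e1 : m + (k + 1) + 1 - (k + 1) = m + 1 := by omega
  rw [e1] at h1 ⊢
  have h2 : ((m + (k + 1)).choose (k + 1)) * (k + 1).factorial * m.factorial = (m + (k + 1)).factorial := by
    have := Nat.choose_mul_factorial_mul_factorial (n := m + (k + 1)) (k := k + 1) (by omega)
    rwa [Nat.add_sub_cancel] at this
  have h3 : ((m + (k + 1)).choose k) * k.factorial * (m + 1).factorial = (m + (k + 1)).factorial := by
    have := Nat.choose_mul_factorial_mul_factorial (n := m + (k + 1)) (k := k) (by omega)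
    have e2 : m + (k + 1) - k = m + 1 := by omega
    rwa [e2] at this
  have hp : (((k + 1).factorial : ℤ) * (m + 1).factorial) ≠ 0 := by positivity
  apply mul_right_cancel₀ hp
  rw [h1]
  have h2' : (((m + (k + 1)).choose (k + 1) : ℕ) : ℤ) * (k + 1).factorial * m.factorial = (m + (k + 1)).factorial := by
    exact_mod_cast h2
  have h3' : (((m + (k + 1)).choose k : ℕ) : ℤ) * k.factorial * (m + 1).factorial = (m + (k + 1)).factorial := by
    exact_mod_cast h3
  have h4 : ((m + 1).factorial : ℤ) = (m + 1) * m.factorial := by rw [Nat.factorial_succ]; push_cast; ring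
  have h5 : ((k + 1).factorial : ℤ) = (k + 1) * k.factorial := by rw [Nat.factorial_succ]; push_cast; ring
  push_cast
  have e3 : (((m + (k + 1)).choose (k + 1) : ℕ) : ℤ) * (((k + 1).factorial : ℤ) * (m + 1).factorial) =
      (m + 1) * (m + (k + 1)).factorial := by
    rw [h4, ← h2']; ring
  have e4 : (((m + (k + 1)).choose k : ℕ) : ℤ) * (((k + 1).factorial : ℤ) * (m + 1).factorial) =
      (k + 1) * (m + (k + 1)).factorial := by
    rw [h5, ← h3']; ring
  rw [sub_mul, e3, e4]
  ring

/-- The value at the transpositions is positive. -/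
theorem swap_two {n k : ℕ} (hn : 5 ≤ n) (hk1 : 1 ≤ k) (hk : 2 * k ≤ n) :
    FM (2 ::ₘ Multiset.replicate (n - 2) 1) (![k, n + 1 - k] : Fin 2 → ℕ) ≠ 0 := by
  rw [FM_cons, Fin.sum_univ_two]
  have d1 : dn (![k, n + 1 - k] : Fin 2 → ℕ) 1 2 = ![k, n - 1 - k] := by
    funext j
    fin_cases j
    · simp [dn, Function.update]
    · simp [dn, Function.update]; omega
  have d0 : dn (![k, n + 1 - k] : Fin 2 → ℕ) 0 2 = ![k - 2, n + 1 - k] := by
    funext j
    fin_cases j
    · simp [dn, Function.update]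
    · simp [dn, Function.update]
  have hb1 : 2 ≤ (![k, n + 1 - k] : Fin 2 → ℕ) 1 := by simp; omega
  rw [if_pos hb1, d1]
  have h1 := formula_two (N := n - 2) (a := k) (b := n - 1 - k) (by omega)
  obtain ⟨s, rfl⟩ : ∃ s, n = 2 * k + s := ⟨n - 2 * k, by omega⟩
  have hN : (0 : ℤ) < ((2 * k + s - 2).factorial : ℤ) := by positivity
  intro h0
  rcases Nat.lt_or_ge k 2 with h2 | h2
  · have hk' : k = 1 := by omega
    subst hk'
    have hb0 : ¬ 2 ≤ (![1, 2 * 1 + s + 1 - 1] : Fin 2 → ℕ) 0 := by simp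
    rw [if_neg hb0, zero_add] at h0
    rw [h0, zero_mul] at h1
    have h3 : ((2 * 1 + s - 1 - 1 : ℕ) : ℤ) - ((1 : ℕ) : ℤ) ≠ 0 := by
      have : 2 * 1 + s - 1 - 1 = s := by omega
      rw [this]; push_cast; omega
    rcases mul_eq_zero.1 h1.symm with h4 | h4
    · omega
    · exact h3 h4
  · have hb0 : 2 ≤ (![k, 2 * k + s + 1 - k] : Fin 2 → ℕ) 0 := by simpa using h2
    rw [if_pos hb0, d0] at h0
    have h3 := formula_two (N := 2 * k + s - 2) (a := k - 2) (b := 2 * k + s + 1 - k) (by omega)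
    obtain ⟨c, rfl⟩ : ∃ c, k = c + 2 := ⟨k - 2, by omega⟩
    have e1 : c + 2 - 2 = c := by omega
    have e2 : 2 * (c + 2) + s + 1 - (c + 2) = c + s + 3 := by omega
    have e3 : 2 * (c + 2) + s - 1 - (c + 2) = c + s + 1 := by omega
    rw [e1, e2] at h0 h3
    rw [e3] at h0 h1
    set T0 := FM (Multiset.replicate (2 * (c + 2) + s - 2) 1) (![c, c + s + 3] : Fin 2 → ℕ)
    set T1 := FM (Multiset.replicate (2 * (c + 2) + s - 2) 1) (![c + 2, c + s + 1] : Fin 2 → ℕ)
    set N := ((2 * (c + 2) + s - 2).factorial : ℤ)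
    have f1 : ((c + 2).factorial : ℤ) = (c + 2) * (c + 1) * c.factorial := by
      rw [Nat.factorial_succ, Nat.factorial_succ]; push_cast; ring
    have f2 : ((c + s + 3).factorial : ℤ) = (c + s + 3) * (c + s + 2) * (c + s + 1).factorial := by
      rw [Nat.factorial_succ, Nat.factorial_succ]; push_cast; ring
    push_cast at h1 h3
    have key : (T0 + T1) * (((c + 2).factorial : ℤ) * (c + s + 3).factorial) =
        N * (((c : ℤ) + 2) * (c + 1) * (s + 3) + (c + s + 3) * (c + s + 2) * (s - 1)) := by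
      have a1 : T0 * (((c + 2).factorial : ℤ) * (c + s + 3).factorial) = (c + 2) * (c + 1) * (N * (s + 3)) := by
        rw [f1]
        linear_combination ((c : ℤ) + 2) * (c + 1) * h3
      have a2 : T1 * (((c + 2).factorial : ℤ) * (c + s + 3).factorial) = (c + s + 3) * (c + s + 2) * (N * (s - 1)) := by
        rw [f2]
        linear_combination ((c : ℤ) + s + 3) * (c + s + 2) * h1
      rw [add_mul, a1, a2]
      ring
    rw [h0, zero_mul] at key
    rcases mul_eq_zero.1 key.symm with h4 | h4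
    · omega
    · have hc0 : (0 : ℤ) ≤ c := Int.natCast_nonneg c
      have hs0 : (0 : ℤ) ≤ s := Int.natCast_nonneg s
      have h5 : (1 : ℤ) ≤ 2 * c + s := by
        have : 5 ≤ 2 * (c + 2) + s := hn
        push_cast [← @Nat.cast_le ℤ] at this
        linarith
      -- the bracket is `2 c (c+2)` for `s = 0`
      rcases Nat.eq_zero_or_pos s with hs | hs
      · subst hs
        push_cast at h4 h5
        have hc1 : (1 : ℤ) ≤ c := by omega
        nlinarith
      · have hs1 : (1 : ℤ) ≤ s := by exact_mod_cast hs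
        have h6 : 0 ≤ ((c : ℤ) + s + 3) * (c + s + 2) * (s - 1) := by
          apply mul_nonneg (by positivity) (by linarith)
        have h7 : 0 < ((c : ℤ) + 2) * (c + 1) * (s + 3) := by positivity
        linarith

/-! ### Three rows -/

theorem formula_three {N a b c : ℕ} (h : a + b + c = N + 3) :
    FM (Multiset.replicate N 1) (![a, b, c] : Fin 3 → ℕ) * ((a.factorial : ℤ) * b.factorial * c.factorial) =
      N.factorial * (((b : ℤ) - a) * (c - a) * (c - b)) := by
  have h1 := FM_ones_formula N (![a, b, c] : Fin 3 → ℕ) (by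
    rw [Fin.sum_univ_three, Fin.sum_univ_three]
    simp
    omega)
  rw [Fin.prod_univ_three, Fin.prod_univ_three] at h1
  have e0 : Finset.Ioi (0 : Fin 3) = {1, 2} := by decide
  have e1 : Finset.Ioi (1 : Fin 3) = {2} := by decide
  have e2 : Finset.Ioi (2 : Fin 3) = ∅ := by decide
  rw [e0, e1, e2, Finset.prod_pair (by decide), Finset.prod_singleton, Finset.prod_empty, mul_one] at h1
  simpa using h1

theorem deg_three {c : ℕ} :
    FM (Multiset.replicate (2 * c + 3) 1) (![1, c + 2, c + 3] : Fin 3 → ℕ) = ((2 * c + 3).choose (c + 3) : ℤ) := by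
  have h1 := formula_three (N := 2 * c + 3) (a := 1) (b := c + 2) (c := c + 3) (by omega)
  have h2 : ((2 * c + 3).choose (c + 3)) * (c + 3).factorial * c.factorial = (2 * c + 3).factorial := by
    have := Nat.choose_mul_factorial_mul_factorial (n := 2 * c + 3) (k := c + 3) (by omega)
    have e2 : 2 * c + 3 - (c + 3) = c := by omega
    rwa [e2] at this
  have h2' : (((2 * c + 3).choose (c + 3) : ℕ) : ℤ) * (c + 3).factorial * c.factorial = (2 * c + 3).factorial := by
    exact_mod_cast h2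
  have hp : (((1 : ℕ).factorial : ℤ) * (c + 2).factorial * (c + 3).factorial) ≠ 0 := by positivity
  apply mul_right_cancel₀ hp
  rw [h1, ← h2']
  have f1 : ((c + 2).factorial : ℤ) = (c + 2) * (c + 1) * c.factorial := by
    rw [Nat.factorial_succ, Nat.factorial_succ]; push_cast; ring
  rw [f1]
  push_cast
  simp only [Nat.factorial_one, Nat.cast_one]
  ring

theorem swap_three {c : ℕ} :
    FM (2 ::ₘ Multiset.replicate (2 * c + 1) 1) (![1, c + 2, c + 3] : Fin 3 → ℕ) ≠ 0 := by
  rw [FM_cons, Fin.sum_univ_three]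
  have d1 : dn (![1, c + 2, c + 3] : Fin 3 → ℕ) 1 2 = ![1, c, c + 3] := by
    funext j
    fin_cases j <;> simp [dn, Function.update]
  have d2 : dn (![1, c + 2, c + 3] : Fin 3 → ℕ) 2 2 = ![1, c + 2, c + 1] := by
    funext j
    fin_cases j <;> simp [dn, Function.update]
  have b0 : ¬ 2 ≤ (![1, c + 2, c + 3] : Fin 3 → ℕ) 0 := by simp
  have b1 : 2 ≤ (![1, c + 2, c + 3] : Fin 3 → ℕ) 1 := by simp
  have b2 : 2 ≤ (![1, c + 2, c + 3] : Fin 3 → ℕ) 2 := by simp
  rw [if_neg b0, if_pos b1, if_pos b2, d1, d2, zero_add]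
  have h1 := formula_three (N := 2 * c + 1) (a := 1) (b := c) (c := c + 3) (by omega)
  have h2 := formula_three (N := 2 * c + 1) (a := 1) (b := c + 2) (c := c + 1) (by omega)
  set T1 := FM (Multiset.replicate (2 * c + 1) 1) (![1, c, c + 3] : Fin 3 → ℕ)
  set T2 := FM (Multiset.replicate (2 * c + 1) 1) (![1, c + 2, c + 1] : Fin 3 → ℕ)
  set N := ((2 * c + 1).factorial : ℤ) with hN
  have hNp : 0 < N := by positivity
  have f1 : ((c + 2).factorial : ℤ) = (c + 2) * (c + 1) * c.factorial := by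
    rw [Nat.factorial_succ, Nat.factorial_succ]; push_cast; ring
  have f2 : ((c + 3).factorial : ℤ) = (c + 3) * (c + 2) * (c + 1).factorial := by
    rw [Nat.factorial_succ, Nat.factorial_succ]; push_cast; ring
  simp only [Nat.factorial_one, Nat.cast_one, one_mul] at h1 h2
  push_cast at h1 h2
  intro h0
  have key : (T1 + T2) * (((c + 2).factorial : ℤ) * (c + 3).factorial) =
      N * (((c : ℤ) + 2) * (c + 1) * (2 * (c * c - 3))) := by
    have a1 : T1 * (((c + 2).factorial : ℤ) * (c + 3).factorial) =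
        (c + 2) * (c + 1) * (N * ((c - 1) * (c + 3 - 1) * (c + 3 - c))) := by
      rw [f1]
      linear_combination ((c : ℤ) + 2) * (c + 1) * h1
    have a2 : T2 * (((c + 2).factorial : ℤ) * (c + 3).factorial) =
        (c + 3) * (c + 2) * (N * ((c + 2 - 1) * (c + 1 - 1) * (c + 1 - (c + 2)))) := by
      rw [f2]
      linear_combination ((c : ℤ) + 3) * (c + 2) * h2
    rw [add_mul, a1, a2]
    ring
  rw [h0, zero_mul] at key
  have hc0 : (0 : ℤ) ≤ c := Int.natCast_nonneg c
  rcases mul_eq_zero.1 key.symm with h4 | h4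
  · omega
  · rcases mul_eq_zero.1 h4 with h5 | h5
    · have : 0 < ((c : ℤ) + 2) * (c + 1) := by positivity
      omega
    · have h6 : (c : ℤ) * c = 3 := by linarith
      have h7 : (c : ℤ) ≤ 1 ∨ (2 : ℤ) ≤ c := by omega
      rcases h7 with h7 | h7 <;> nlinarith

/-! ### The choice of the partition -/

theorem of_neg_one {p : ℕ} (hp : p.Prime) (hp2 : p ≠ 2) {d : ℤ} (h : (p : ℤ) ∣ d + 1) : ¬ (p : ℤ) ∣ d ∧ d ≠ 1 := by
  constructor
  · intro h1
    have h2 : (p : ℤ) ∣ 1 := by
      have := dvd_sub h h1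
      rwa [add_sub_cancel_left] at this
    have h3 : p ∣ 1 := by exact_mod_cast h2
    exact hp.one_lt.ne' (Nat.dvd_one.1 h3)
  · rintro rfl
    have h3 : p ∣ 2 := by exact_mod_cast h
    exact hp2 ((Nat.prime_dvd_prime_iff_eq hp Nat.prime_two).1 h3)

theorem lucas {p n k a b : ℕ} [Fact p.Prime] (ha : (n % p).choose (k % p) = a) (hb : (n / p).choose (k / p) = b) :
    (p : ℤ) ∣ (n.choose k : ℤ) - a * b := by
  have h := Choose.choose_modEq_choose_mod_mul_choose_div (n := n) (k := k) (p := p)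
  rw [ha, hb] at h
  exact h.symm.dvd

theorem tr_one (n : ℕ) (j : Fin 2) : tr 1 n j = (![0, n + 1] : Fin 2 → ℕ) j := by
  fin_cases j <;> simp [tr]

theorem exists_two {n p : ℕ} [hp : Fact p.Prime] (hp2 : p ≠ 2) (hn : 5 ≤ n) (hpn : p ≤ n) (hne : n ≠ 2 * p - 1) :
    ∃ k : ℕ, 1 ≤ k ∧ 2 * k ≤ n ∧ SameCol p (tr 1 n) (![k, n + 1 - k] : Fin 2 → ℕ) ∧
      ¬ (p : ℤ) ∣ FM (Multiset.replicate n 1) (![k, n + 1 - k] : Fin 2 → ℕ) ∧
      FM (Multiset.replicate n 1) (![k, n + 1 - k] : Fin 2 → ℕ) ≠ 1 := by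
  have hp3 : 3 ≤ p := by have := hp.out.two_le; omega
  have hmod := Nat.div_add_mod n p
  set r := n % p with hr
  set m := n / p with hm
  have hrp : r < p := Nat.mod_lt _ hp.out.pos
  have hm1 : 1 ≤ m := (Nat.one_le_div_iff hp.out.pos).2 hpn
  have hcol : ∀ k, k % p = 0 → k ≤ n → SameCol p (tr 1 n) (![k, n + 1 - k] : Fin 2 → ℕ) := by
    intro k hk hkn
    apply H614.sameCol_of_mod
    intro j
    rw [tr_one]
    fin_cases j
    · simp [hk]
    · simp only [Fin.mk_one, Matrix.cons_val_one, Matrix.cons_val_fin_one]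
      obtain ⟨t, ht⟩ := Nat.dvd_of_mod_eq_zero hk
      have e : n + 1 = n + 1 - k + p * t := by omega
      conv_lhs => rw [e]
      rw [Nat.add_mul_mod_self_left]
  rcases Nat.lt_or_ge (r + 1) p with h | h
  · -- `k = r + 1`
    have hpm : p ≤ p * m := Nat.le_mul_of_pos_right p hm1
    refine ⟨r + 1, by omega, by omega, ?_, ?_⟩
    · refine SameCol.trans ?_ (sameCol_comp p (![r + 1, n + 1 - (r + 1)] : Fin 2 → ℕ) (Equiv.swap 0 1))
      apply H614.sameCol_of_mod
      intro j
      rw [tr_one]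
      fin_cases j
      · have e : n + 1 - (r + 1) = p * m := by omega
        simp [e]
      · have e : n + 1 = r + 1 + p * m := by omega
        simp only [Fin.mk_one, Matrix.cons_val_one, Matrix.cons_val_fin_one, Function.comp_apply,
          Equiv.swap_apply_right, Matrix.cons_val_zero]
        rw [e, Nat.add_mul_mod_self_left]
    · have h1 := deg_two (n := n) (k := r) (by omega)
      rw [h1]
      have h2 := lucas (p := p) (n := n) (k := r + 1) (a := 0) (b := 1)
        (by rw [← hr, Nat.mod_eq_of_lt h]; exact Nat.choose_eq_zero_of_lt (by omega))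
        (by rw [Nat.div_eq_of_lt h, Nat.choose_zero_right])
      have h3 := lucas (p := p) (n := n) (k := r) (a := 1) (b := 1)
        (by rw [← hr, Nat.mod_eq_of_lt hrp, Nat.choose_self])
        (by rw [Nat.div_eq_of_lt hrp, Nat.choose_zero_right])
      apply of_neg_one hp.out hp2
      have h4 := dvd_sub h2 h3
      have e : ((n.choose (r + 1) : ℤ) - n.choose r) + 1 =
          (n.choose (r + 1) : ℤ) - (0 : ℕ) * (1 : ℕ) - ((n.choose r : ℤ) - (1 : ℕ) * (1 : ℕ)) := by
        push_cast; ring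
      rw [e]
      exact h4
  · have hr1 : r = p - 1 := by omega
    obtain ⟨q, rfl⟩ : ∃ q, p = q + 1 := ⟨p - 1, by omega⟩
    have hrq : r = q := by omega
    have hm2 : 2 ≤ m := by
      by_contra hlt
      have hm' : m = 1 := by omega
      rw [hm', mul_one] at hmod
      omega
    have hq : q < q + 1 := Nat.lt_succ_self q
    have hn1 : n = (q + 1) * m + q := by omega
    have hC := lucas (p := q + 1) (n := n) (k := q) (a := 1) (b := 1)
      (by rw [← hr, Nat.mod_eq_of_lt hq, hrq, Nat.choose_self])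
      (by rw [Nat.div_eq_of_lt hq, Nat.choose_zero_right])
    by_cases hdm : (((q + 1 : ℕ) : ℤ)) ∣ (m : ℤ) - 1
    · -- `k = 2p`
      have hdm' : q + 1 ∣ m - 1 := by
        have : ((m - 1 : ℕ) : ℤ) = (m : ℤ) - 1 := by push_cast [Nat.cast_sub hm1]; ring
        rw [← this] at hdm
        exact_mod_cast hdm
      have hm3 : q + 1 ≤ m - 1 := Nat.le_of_dvd (by omega) hdm'
      have hm4 : (q + 1) * 4 ≤ (q + 1) * m := Nat.mul_le_mul_left _ (by omega)
      refine ⟨2 * q + 1 + 1, by omega, by omega, hcol _ ?_ (by omega), ?_⟩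
      · have : 2 * q + 1 + 1 = (q + 1) * 2 := by ring
        rw [this, Nat.mul_mod_right]
      · have h1 := deg_two (n := n) (k := 2 * q + 1) (by omega)
        rw [h1]
        have h2 := lucas (p := q + 1) (n := n) (k := 2 * q + 1) (a := 1) (b := m)
          (by
            have e : (2 * q + 1) % (q + 1) = q := by
              have : 2 * q + 1 = q + (q + 1) * 1 := by ring
              rw [this, Nat.add_mul_mod_self_left, Nat.mod_eq_of_lt hq]
            rw [← hr, e, hrq, Nat.choose_self])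
          (by
            have e : (2 * q + 1) / (q + 1) = 1 := by
              have : 2 * q + 1 = q + (q + 1) * 1 := by ring
              rw [this, Nat.add_mul_div_left _ _ (by omega), Nat.div_eq_of_lt hq]
            rw [← hm, e, Nat.choose_one_right])
        have h3 := Nat.choose_succ_right_eq n (2 * q + 1)
        have e1 : n - (2 * q + 1) = (q + 1) * (m - 1) := by
          rw [Nat.mul_sub]
          omega
        have h4 : n.choose (2 * q + 1 + 1) * 2 = n.choose (2 * q + 1) * (m - 1) := by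
          apply Nat.eq_of_mul_eq_mul_left (show 0 < q + 1 by omega)
          rw [e1] at h3
          calc (q + 1) * (n.choose (2 * q + 1 + 1) * 2) = n.choose (2 * q + 1 + 1) * (2 * q + 1 + 1) := by ring
            _ = n.choose (2 * q + 1) * ((q + 1) * (m - 1)) := h3
            _ = (q + 1) * (n.choose (2 * q + 1) * (m - 1)) := by ring
        have h5 : q + 1 ∣ n.choose (2 * q + 1 + 1) := by
          have h6 : q + 1 ∣ n.choose (2 * q + 1 + 1) * 2 := by rw [h4]; exact Dvd.dvd.mul_left hdm' _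
          rcases hp.out.dvd_mul.1 h6 with h7 | h7
          · exact h7
          · exact absurd ((Nat.prime_dvd_prime_iff_eq hp.out Nat.prime_two).1 h7) hp2
        have h5' : ((q + 1 : ℕ) : ℤ) ∣ (n.choose (2 * q + 1 + 1) : ℤ) := Int.natCast_dvd_natCast.2 h5
        apply of_neg_one hp.out hp2
        have h6 := dvd_sub (dvd_sub h5' h2) hdm
        have e : ((n.choose (2 * q + 1 + 1) : ℤ) - n.choose (2 * q + 1)) + 1 =
            (n.choose (2 * q + 1 + 1) : ℤ) - ((n.choose (2 * q + 1) : ℤ) - (1 : ℕ) * (m : ℕ)) - ((m : ℤ) - 1) := by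
          push_cast; ring
        rw [e]
        exact h6
    · -- `k = p`
      have hm4 : (q + 1) * 2 ≤ (q + 1) * m := Nat.mul_le_mul_left _ hm2
      refine ⟨q + 1, by omega, by omega, hcol _ (Nat.mod_self _) (by omega), ?_⟩
      have h1 := deg_two (n := n) (k := q) (by omega)
      rw [h1]
      have h3 := Nat.choose_succ_right_eq n q
      have e1 : n - q = (q + 1) * m := by omega
      have h4 : n.choose (q + 1) = n.choose q * m := by
        apply Nat.eq_of_mul_eq_mul_left (show 0 < q + 1 by omega)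
        rw [e1] at h3
        calc (q + 1) * n.choose (q + 1) = n.choose (q + 1) * (q + 1) := by ring
          _ = n.choose q * ((q + 1) * m) := h3
          _ = (q + 1) * (n.choose q * m) := by ring
      have h5 : ((n.choose (q + 1) : ℕ) : ℤ) - (n.choose q : ℕ) = (n.choose q : ℤ) * ((m : ℤ) - 1) := by
        rw [h4]; push_cast; ring
      rw [h5]
      have hpz : Prime (((q + 1 : ℕ)) : ℤ) := Nat.prime_iff_prime_int.1 hp.out
      constructor
      · intro h6
        rcases hpz.dvd_or_dvd h6 with h7 | h7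
        · have h8 := dvd_sub h7 hC
          have e : (n.choose q : ℤ) - ((n.choose q : ℤ) - (1 : ℕ) * (1 : ℕ)) = 1 := by push_cast; ring
          rw [e] at h8
          exact hpz.not_isUnit (isUnit_of_dvd_one h8)
        · exact hdm h7
      · intro h6
        have h7 : (n.choose q : ℤ) = 1 := by
          have hc : (0 : ℤ) < n.choose q := by
            have : 0 < n.choose q := Nat.choose_pos (by omega)
            exact_mod_cast this
          exact Int.eq_one_of_mul_eq_one_right hc.le h6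
        have h8 : n.choose q = 1 := by exact_mod_cast h7
        rcases Nat.choose_eq_one_iff.1 h8 with h9 | h9 <;> omega

theorem row_alt {n p : ℕ} [hp : Fact p.Prime] (hp2 : p ≠ 2) (hn : 5 ≤ n) (hpn : p ≤ n) {M : Ideal AlgInt}
    (hM : IsPModular p M) :
    ∃ θ : IrrCharacter ↥(alternatingGroup (Fin n)), θ ∈ principalBlock M ↥(alternatingGroup (Fin n)) ∧
      (θ : ↥(alternatingGroup (Fin n)) → ℂ) ≠ (fun _ => 1) ∧ ¬ p ∣ charDegree (θ : ↥(alternatingGroup (Fin n)) → ℂ) ∧
      ∀ g, ∃ k : ℤ, (θ : ↥(alternatingGroup (Fin n)) → ℂ) g = k := by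
  have hp3 : 3 ≤ p := by have := hp.out.two_le; omega
  by_cases hne : n = 2 * p - 1
  · obtain ⟨c, rfl⟩ : ∃ c, p = c + 2 := ⟨p - 2, by omega⟩
    have hn' : n = 2 * c + 3 := by omega
    subst hn'
    have hd : (2 * c + 3).choose (c + 3) = (2 * c + 3).choose c := by
      rw [← Nat.choose_symm_of_eq_add]; omega
    have hL := lucas (p := c + 2) (n := 2 * c + 3) (k := c + 3) (a := c + 1) (b := 1)
      (by
        have e : (2 * c + 3) % (c + 2) = c + 1 := by
          have : 2 * c + 3 = c + 1 + (c + 2) * 1 := by ring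
          rw [this, Nat.add_mul_mod_self_left, Nat.mod_eq_of_lt (by omega)]
        have e' : (c + 3) % (c + 2) = 1 := by
          have : c + 3 = 1 + (c + 2) * 1 := by ring
          rw [this, Nat.add_mul_mod_self_left, Nat.mod_eq_of_lt (by omega)]
        rw [e, e', Nat.choose_one_right])
      (by
        have e : (2 * c + 3) / (c + 2) = 1 := by
          have : 2 * c + 3 = c + 1 + (c + 2) * 1 := by ring
          rw [this, Nat.add_mul_div_left _ _ (by omega), Nat.div_eq_of_lt (by omega)]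
        have e' : (c + 3) / (c + 2) = 1 := by
          have : c + 3 = 1 + (c + 2) * 1 := by ring
          rw [this, Nat.add_mul_div_left _ _ (by omega), Nat.div_eq_of_lt (by omega)]
        rw [e, e', Nat.choose_self])
    have h1 : (((c + 2 : ℕ)) : ℤ) ∣ FM (Multiset.replicate (2 * c + 3) 1) (![1, c + 2, c + 3] : Fin 3 → ℕ) + 1 := by
      rw [deg_three]
      have e : (((2 * c + 3).choose (c + 3) : ℕ) : ℤ) + 1 =
          (((2 * c + 3).choose (c + 3) : ℕ) : ℤ) - ((c + 1 : ℕ) : ℤ) * (1 : ℕ) + ((c + 2 : ℕ) : ℤ) := by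
        push_cast; ring
      rw [e]
      exact dvd_add hL dvd_rfl
    obtain ⟨h2, h3⟩ := of_neg_one hp.out hp2 h1
    refine exists_theta (k := 2) hn hM (β := (![1, c + 2, c + 3] : Fin 3 → ℕ)) ?_ ?_ ?_ h2 h3 ?_
    · intro a b hab
      fin_cases a <;> fin_cases b <;> simp at hab ⊢
    · rw [Fin.sum_univ_three, Fin.sum_univ_three]
      simp
      ring
    · refine SameCol.trans ?_ (sameCol_comp (c + 2) (![1, c + 2, c + 3] : Fin 3 → ℕ) (Equiv.swap 0 1))
      apply H614.sameCol_of_mod
      intro j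
      fin_cases j
      · simp [tr]
      · simp [tr, Fin.ext_iff, Fin.last]
      · have e : (Equiv.swap (0 : Fin 3) 1) 2 = 2 := by decide
        have e1 : tr 2 (2 * c + 3) (2 : Fin 3) = 2 * c + 3 + 2 := tr_last 2 (2 * c + 3)
        show tr 2 (2 * c + 3) (2 : Fin 3) % (c + 2) = (![1, c + 2, c + 3] : Fin 3 → ℕ) (Equiv.swap (0 : Fin 3) 1 2) % (c + 2)
        rw [e, e1]
        show (2 * c + 3 + 2) % (c + 2) = (c + 3) % (c + 2)
        have e3 : 2 * c + 3 + 2 = c + 3 + (c + 2) * 1 := by ring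
        rw [e3, Nat.add_mul_mod_self_left]
    · have e : 2 * c + 3 - 2 = 2 * c + 1 := by omega
      rw [e]
      exact swap_three
  · obtain ⟨k, h1, h2, h3, h4, h5⟩ := exists_two hp2 hn hpn hne
    exact exists_theta (k := 1) hn hM (mono_two h2) (sum_two (by omega)) h3 h4 h5 (swap_two hn h1 h2)

/-- **S4891, the alternating groups.** -/
theorem alt {p : ℕ} [hp : Fact p.Prime] (hp2 : p ≠ 2) : RowForZ p (fun X _ => IsAlternating X) := by
  intro X _ _ _ _ hd hC
  obtain ⟨n, hn, ⟨e⟩⟩ := hC
  refine RowZ.congr e fun A hA M hM => ?_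
  have hpn : p ≤ n := by
    rw [Nat.card_congr e.toEquiv] at hd
    have h1 := card_alt n (by omega)
    exact (hp.out.dvd_factorial).1 (h1 ▸ Dvd.dvd.mul_left hd 2)
  obtain ⟨θ, h1, h2, h3, h4⟩ := row_alt hp2 hn hpn hM
  refine ⟨θ, h1, h2, h3, h4, fun a ha x => ?_⟩
  obtain ⟨k, hk⟩ := hA ⟨a, ha⟩
  have hk' : a ^ p ^ k = 1 := by
    have := congrArg Subtype.val hk
    simpa using this
  obtain ⟨g, rfl⟩ := inner_alt hn hp.out hp2 hk'
  rw [MulAut.conj_apply]
  exact Blocks.Basic.irr_conj θ.2 x g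

end Cfsg.Agent.H709.BR
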